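import Mathlib
import Cfsg.Agent.Lib.Helper93.M11U.Defs

set_option autoImplicit false

/-!
# S0420, package [STEINER]

A sharply `4`-transitive group all of whose elements of order `3` fix exactly two points
preserves a Steiner system `S(4, 5, ·)`.
-/

namespace Cfsg.Agent.Lib.Helper96.M11U

universe u

variable {G : Type u} [Group G] {Ω : Type u} [MulAction G Ω]

/-- the embedding of four distinct points -/
def emb4 (a b c d : Ω) (ab : a ≠ b) (ac : a ≠ c) (ad : a ≠ d) (bc : b ≠ c) (bd : b ≠ d)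
    (cd : c ≠ d) : Fin 4 ↪ Ω :=
  ⟨![a, b, c, d], by
    intro i j h
    fin_cases i <;> fin_cases j <;> simp_all⟩

theorem emb4_zero (a b c d : Ω) (ab : a ≠ b) (ac : a ≠ c) (ad : a ≠ d) (bc : b ≠ c)
    (bd : b ≠ d) (cd : c ≠ d) : emb4 a b c d ab ac ad bc bd cd 0 = a := rfl

theorem emb4_one (a b c d : Ω) (ab : a ≠ b) (ac : a ≠ c) (ad : a ≠ d) (bc : b ≠ c)
    (bd : b ≠ d) (cd : c ≠ d) : emb4 a b c d ab ac ad bc bd cd 1 = b := rfl

theorem emb4_two (a b c d : Ω) (ab : a ≠ b) (ac : a ≠ c) (ad : a ≠ d) (bc : b ≠ c)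
    (bd : b ≠ d) (cd : c ≠ d) : emb4 a b c d ab ac ad bc bd cd 2 = c := rfl

theorem emb4_three (a b c d : Ω) (ab : a ≠ b) (ac : a ≠ c) (ad : a ≠ d) (bc : b ≠ c)
    (bd : b ≠ d) (cd : c ≠ d) : emb4 a b c d ab ac ad bc bd cd 3 = d := rfl

theorem eq_of_agree (hs : ∀ x y : Fin 4 ↪ Ω, ∃! g : G, ∀ i, g • x i = y i)
    {a b c d : Ω} (ab : a ≠ b) (ac : a ≠ c) (ad : a ≠ d) (bc : b ≠ c) (bd : b ≠ d)
    (cd : c ≠ d) (g h : G) (ha : g • a = h • a) (hb : g • b = h • b) (hc : g • c = h • c)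
    (hd : g • d = h • d) : g = h := by
  obtain ⟨k, -, hk⟩ := hs (emb4 a b c d ab ac ad bc bd cd)
    ((emb4 a b c d ab ac ad bc bd cd).trans (MulAction.toPerm h).toEmbedding)
  have h1 : g = k := hk g (fun i => by
    fin_cases i
    · exact ha
    · exact hb
    · exact hc
    · exact hd)
  have h2 : h = k := hk h (fun i => by
    fin_cases i <;> rfl)
  rw [h1, h2]

theorem exists_map4 (hs : ∀ x y : Fin 4 ↪ Ω, ∃! g : G, ∀ i, g • x i = y i)
    {a b c d : Ω} (ab : a ≠ b) (ac : a ≠ c) (ad : a ≠ d) (bc : b ≠ c) (bd : b ≠ d)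
    (cd : c ≠ d) {a' b' c' d' : Ω} (ab' : a' ≠ b') (ac' : a' ≠ c') (ad' : a' ≠ d')
    (bc' : b' ≠ c') (bd' : b' ≠ d') (cd' : c' ≠ d') :
    ∃ g : G, g • a = a' ∧ g • b = b' ∧ g • c = c' ∧ g • d = d' := by
  obtain ⟨k, hk, -⟩ := hs (emb4 a b c d ab ac ad bc bd cd)
    (emb4 a' b' c' d' ab' ac' ad' bc' bd' cd')
  exact ⟨k, hk 0, hk 1, hk 2, hk 3⟩

theorem fix_eq (h3 : ∀ x : G, orderOf x = 3 → Nat.card {q : Ω // x • q = q} = 2)
    {x : G} (hx : orderOf x = 3) {p q r : Ω} (hp : x • p = p) (hq : x • q = q)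
    (hr : x • r = r) (hpq : p ≠ q) : r = p ∨ r = q := by
  obtain ⟨y, -, hy⟩ := (Nat.card_eq_two_iff' (⟨p, hp⟩ : {q : Ω // x • q = q})).mp (h3 x hx)
  by_cases hrp : r = p
  · exact Or.inl hrp
  · right
    have e1 : (⟨r, hr⟩ : {q : Ω // x • q = q}) = y :=
      hy _ (fun h => hrp (congrArg Subtype.val h))
    have e2 : (⟨q, hq⟩ : {q : Ω // x • q = q}) = y :=
      hy _ (fun h => hpq (congrArg Subtype.val h).symm)
    exact congrArg Subtype.val (e1.trans e2.symm)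

theorem exists_fix (h3 : ∀ x : G, orderOf x = 3 → Nat.card {q : Ω // x • q = q} = 2)
    {x : G} (hx : orderOf x = 3) {a : Ω} (ha : x • a = a) : ∃ e, e ≠ a ∧ x • e = e := by
  obtain ⟨y, hy, -⟩ := (Nat.card_eq_two_iff' (⟨a, ha⟩ : {q : Ω // x • q = q})).mp (h3 x hx)
  exact ⟨y.1, fun h => hy (Subtype.ext h), y.2⟩

/-- a presentation of a block: `x` fixes `a` and `e`, and cycles `b → c → d → b` -/
structure Pres (G : Type u) [Group G] {Ω : Type u} [MulAction G Ω] (a b c d e : Ω) (x : G) :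
    Prop where
  ab : a ≠ b
  ac : a ≠ c
  ad : a ≠ d
  bc : b ≠ c
  bd : b ≠ d
  cd : c ≠ d
  xa : x • a = a
  xb : x • b = c
  xc : x • c = d
  xd : x • d = b
  xe : x • e = e
  ea : e ≠ a

theorem orderOf_eq_three_of (hs : ∀ x y : Fin 4 ↪ Ω, ∃! g : G, ∀ i, g • x i = y i)
    {a b c d : Ω} (ab : a ≠ b) (ac : a ≠ c) (ad : a ≠ d) (bc : b ≠ c) (bd : b ≠ d)
    (cd : c ≠ d) {x : G} (xa : x • a = a) (xb : x • b = c) (xc : x • c = d) (xd : x • d = b) :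
    orderOf x = 3 := by
  have : Fact (Nat.Prime 3) := ⟨by norm_num⟩
  refine orderOf_eq_prime ?_ ?_
  · refine eq_of_agree hs ab ac ad bc bd cd _ _ ?_ ?_ ?_ ?_
    · simp [pow_succ, mul_smul, xa]
    · simp [pow_succ, mul_smul, xb, xc, xd]
    · simp [pow_succ, mul_smul, xb, xc, xd]
    · simp [pow_succ, mul_smul, xb, xc, xd]
  · rintro rfl
    rw [one_smul] at xb
    exact bc xb

namespace Pres

variable {a b c d e : Ω} {x : G}

theorem order (hs : ∀ x y : Fin 4 ↪ Ω, ∃! g : G, ∀ i, g • x i = y i)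
    (h : Pres G a b c d e x) : orderOf x = 3 :=
  orderOf_eq_three_of hs h.ab h.ac h.ad h.bc h.bd h.cd h.xa h.xb h.xc h.xd

theorem eb (h : Pres G a b c d e x) : e ≠ b := by
  rintro rfl
  exact h.bc (h.xe.symm.trans h.xb)

theorem ec (h : Pres G a b c d e x) : e ≠ c := by
  rintro rfl
  exact h.cd (h.xe.symm.trans h.xc)

theorem ed (h : Pres G a b c d e x) : e ≠ d := by
  rintro rfl
  exact h.bd (h.xd.symm.trans h.xe)

theorem rot (h : Pres G a b c d e x) : Pres G a c d b e x :=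
  ⟨h.ac, h.ad, h.ab, h.cd, h.bc.symm, h.bd.symm, h.xa, h.xc, h.xd, h.xb, h.xe, h.ea⟩

theorem swap (h : Pres G a b c d e x) : Pres G e b c d a x :=
  ⟨h.eb, h.ec, h.ed, h.bc, h.bd, h.cd, h.xe, h.xb, h.xc, h.xd, h.xa, h.ea.symm⟩

theorem conj (h : Pres G a b c d e x) (g : G) :
    Pres G (g • a) (g • b) (g • c) (g • d) (g • e) (g * x * g⁻¹) := by
  refine ⟨fun h' => h.ab (smul_left_cancel g h'), fun h' => h.ac (smul_left_cancel g h'),
    fun h' => h.ad (smul_left_cancel g h'), fun h' => h.bc (smul_left_cancel g h'),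
    fun h' => h.bd (smul_left_cancel g h'), fun h' => h.cd (smul_left_cancel g h'),
    ?_, ?_, ?_, ?_, ?_, fun h' => h.ea (smul_left_cancel g h')⟩
  · simp [mul_smul, h.xa]
  · simp [mul_smul, h.xb]
  · simp [mul_smul, h.xc]
  · simp [mul_smul, h.xd]
  · simp [mul_smul, h.xe]

theorem inv_fix (hs : ∀ x y : Fin 4 ↪ Ω, ∃! g : G, ∀ i, g • x i = y i)
    (h3 : ∀ x : G, orderOf x = 3 → Nat.card {q : Ω // x • q = q} = 2)
    (h : Pres G a b c d e x) (τ : G) (τa : τ • a = a) (τb : τ • b = b) (τc : τ • c = d)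
    (τd : τ • d = c) : τ • e = e := by
  have ia : τ⁻¹ • a = a := inv_smul_eq_iff.mpr τa.symm
  have ib : τ⁻¹ • b = b := inv_smul_eq_iff.mpr τb.symm
  have ic : τ⁻¹ • c = d := inv_smul_eq_iff.mpr τd.symm
  have id' : τ⁻¹ • d = c := inv_smul_eq_iff.mpr τc.symm
  have key : τ * x * τ⁻¹ * x = 1 := by
    refine eq_of_agree hs h.ab h.ac h.ad h.bc h.bd h.cd _ _ ?_ ?_ ?_ ?_
    · simp [mul_smul, h.xa, ia, τa]
    · simp [mul_smul, h.xb, ic, h.xd, τb]
    · simp [mul_smul, h.xc, id', τd]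
    · simp [mul_smul, h.xd, ib, h.xb, τc]
  have k2 : x⁻¹ * τ = τ * x := by
    have := eq_inv_of_mul_eq_one_left key
    rw [← this]; group
  have k3 : x • (τ • e) = τ • e := by
    have : x⁻¹ • (τ • e) = τ • e := by
      rw [← mul_smul, k2, mul_smul, h.xe]
    exact (inv_smul_eq_iff.mp this).symm
  rcases fix_eq h3 (h.order hs) h.xa h.xe k3 h.ea.symm with h' | h'
  · exact absurd (smul_left_cancel τ (h'.trans τa.symm)) h.ea
  · exact h'

end Pres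

theorem exists_pres (hs : ∀ x y : Fin 4 ↪ Ω, ∃! g : G, ∀ i, g • x i = y i)
    (h3 : ∀ x : G, orderOf x = 3 → Nat.card {q : Ω // x • q = q} = 2)
    {a b c d : Ω} (ab : a ≠ b) (ac : a ≠ c) (ad : a ≠ d) (bc : b ≠ c) (bd : b ≠ d)
    (cd : c ≠ d) : ∃ (e : Ω) (x : G), Pres G a b c d e x := by
  obtain ⟨x, xa, xb, xc, xd⟩ := exists_map4 hs ab ac ad bc bd cd ac ad ab cd bc.symm bd.symm
  have hx := orderOf_eq_three_of hs ab ac ad bc bd cd xa xb xc xd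
  obtain ⟨e, ea, xe⟩ := exists_fix h3 hx xa
  exact ⟨e, x, ab, ac, ad, bc, bd, cd, xa, xb, xc, xd, xe, ea⟩

theorem core (hs : ∀ x y : Fin 4 ↪ Ω, ∃! g : G, ∀ i, g • x i = y i)
    (h3 : ∀ x : G, orderOf x = 3 → Nat.card {q : Ω // x • q = q} = 2)
    {a b c d e a' b' c' d' e' : Ω} {x x' : G} (h1 : Pres G a b c d e x)
    (h2 : Pres G a' b' c' d' e' x')
    (hab : (a' = a ∧ b' = b) ∨ (a' = b ∧ b' = a))
    (hcd : (c' = c ∧ d' = d) ∨ (c' = d ∧ d' = c)) : e = e' := by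
  obtain ⟨τ, τa, τb, τc, τd⟩ :=
    exists_map4 hs h1.ab h1.ac h1.ad h1.bc h1.bd h1.cd h1.ab h1.ad h1.ac h1.bd h1.bc h1.cd.symm
  have τe : τ • e = e := h1.inv_fix hs h3 τ τa τb τc τd
  have τe' : τ • e' = e' := by
    rcases hab with ⟨rfl, rfl⟩ | ⟨rfl, rfl⟩ <;> rcases hcd with ⟨rfl, rfl⟩ | ⟨rfl, rfl⟩
    · exact h2.inv_fix hs h3 τ τa τb τc τd
    · exact h2.inv_fix hs h3 τ τa τb τd τc
    · exact h2.inv_fix hs h3 τ τb τa τc τd
    · exact h2.inv_fix hs h3 τ τb τa τd τc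
  have ae' : e' ≠ a := by
    rcases hab with ⟨rfl, rfl⟩ | ⟨rfl, rfl⟩
    · exact h2.ea
    · exact h2.eb
  have be' : e' ≠ b := by
    rcases hab with ⟨rfl, rfl⟩ | ⟨rfl, rfl⟩
    · exact h2.eb
    · exact h2.ea
  by_contra hne
  have : τ = 1 := by
    refine eq_of_agree hs h1.ab h1.ea.symm ae'.symm h1.eb.symm be'.symm hne _ _ ?_ ?_ ?_ ?_
    · simp [τa]
    · simp [τb]
    · simp [τe]
    · simp [τe']
  rw [this, one_smul] at τc
  exact h1.cd τc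

theorem samefix (hs : ∀ x y : Fin 4 ↪ Ω, ∃! g : G, ∀ i, g • x i = y i)
    (h3 : ∀ x : G, orderOf x = 3 → Nat.card {q : Ω // x • q = q} = 2)
    {a b c d e b' c' d' e' : Ω} {x x' : G} (h1 : Pres G a b c d e x)
    (h2 : Pres G a b' c' d' e' x')
    (hb : b' = a ∨ b' = b ∨ b' = c ∨ b' = d) (hc : c' = a ∨ c' = b ∨ c' = c ∨ c' = d)
    (hd : d' = a ∨ d' = b ∨ d' = c ∨ d' = d) : e = e' := by
  rcases hb with rfl | rfl | rfl | rfl <;> rcases hc with rfl | rfl | rfl | rfl <;>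
    rcases hd with rfl | rfl | rfl | rfl <;>
    first
    | exact absurd rfl h2.ab
    | exact absurd rfl h2.ac
    | exact absurd rfl h2.ad
    | exact absurd rfl h2.bc
    | exact absurd rfl h2.bd
    | exact absurd rfl h2.cd
    | exact core hs h3 h1 h2 (Or.inl ⟨rfl, rfl⟩) (Or.inl ⟨rfl, rfl⟩)
    | exact core hs h3 h1 h2 (Or.inl ⟨rfl, rfl⟩) (Or.inr ⟨rfl, rfl⟩)
    | exact core hs h3 h1.rot h2 (Or.inl ⟨rfl, rfl⟩) (Or.inl ⟨rfl, rfl⟩)
    | exact core hs h3 h1.rot h2 (Or.inl ⟨rfl, rfl⟩) (Or.inr ⟨rfl, rfl⟩)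
    | exact core hs h3 h1.rot.rot h2 (Or.inl ⟨rfl, rfl⟩) (Or.inl ⟨rfl, rfl⟩)
    | exact core hs h3 h1.rot.rot h2 (Or.inl ⟨rfl, rfl⟩) (Or.inr ⟨rfl, rfl⟩)

theorem move (hs : ∀ x y : Fin 4 ↪ Ω, ∃! g : G, ∀ i, g • x i = y i)
    (h3 : ∀ x : G, orderOf x = 3 → Nat.card {q : Ω // x • q = q} = 2)
    {a b c d e : Ω} {x : G} (h1 : Pres G a b c d e x) : ∃ x₂ : G, Pres G b a c d e x₂ := by
  obtain ⟨e₂, x₂, h2⟩ := exists_pres hs h3 h1.ab.symm h1.bc h1.bd h1.ac h1.ad h1.cd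
  have : e = e₂ := core hs h3 h1 h2 (Or.inr ⟨rfl, rfl⟩) (Or.inl ⟨rfl, rfl⟩)
  subst this
  exact ⟨x₂, h2⟩

theorem or4_perm1 {p q r s : Prop} (h : p ∨ q ∨ r ∨ s) : q ∨ p ∨ r ∨ s := by tauto

theorem or4_perm2 {p q r s : Prop} (h : p ∨ q ∨ r ∨ s) : r ∨ p ∨ s ∨ q := by tauto

theorem or4_perm3 {p q r s : Prop} (h : p ∨ q ∨ r ∨ s) : s ∨ p ∨ q ∨ r := by tauto

theorem c1 [DecidableEq Ω] (hs : ∀ x y : Fin 4 ↪ Ω, ∃! g : G, ∀ i, g • x i = y i)
    (h3 : ∀ x : G, orderOf x = 3 → Nat.card {q : Ω // x • q = q} = 2)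
    {a b c d e a' b' c' d' e' : Ω} {x x' : G} (h1 : Pres G a b c d e x)
    (h2 : Pres G a' b' c' d' e' x')
    (hA : ({a, b, c, d} : Finset Ω) = {a', b', c', d'}) : e = e' := by
  have ha' : a' ∈ ({a, b, c, d} : Finset Ω) := by rw [hA]; simp
  have hb' : b' ∈ ({a, b, c, d} : Finset Ω) := by rw [hA]; simp
  have hc' : c' ∈ ({a, b, c, d} : Finset Ω) := by rw [hA]; simp
  have hd' : d' ∈ ({a, b, c, d} : Finset Ω) := by rw [hA]; simp
  simp only [Finset.mem_insert, Finset.mem_singleton] at ha' hb' hc' hd'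
  rcases ha' with rfl | rfl | rfl | rfl
  · exact samefix hs h3 h1 h2 hb' hc' hd'
  · obtain ⟨x₂, h1'⟩ := move hs h3 h1
    exact samefix hs h3 h1' h2 (or4_perm1 hb') (or4_perm1 hc')
      (or4_perm1 hd')
  · obtain ⟨x₂, h1'⟩ := move hs h3 h1.rot
    exact samefix hs h3 h1' h2 (or4_perm2 hb') (or4_perm2 hc')
      (or4_perm2 hd')
  · obtain ⟨x₂, h1'⟩ := move hs h3 h1.rot.rot
    exact samefix hs h3 h1' h2 (or4_perm3 hb') (or4_perm3 hc')
      (or4_perm3 hd')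

theorem card5 [DecidableEq Ω] {a b c d e : Ω} {x : G} (h : Pres G a b c d e x) :
    ({a, b, c, d, e} : Finset Ω).card = 5 := by
  rw [Finset.card_insert_of_notMem, Finset.card_insert_of_notMem, Finset.card_insert_of_notMem,
    Finset.card_insert_of_notMem, Finset.card_singleton]
  · simp [h.ed.symm]
  · simp [h.cd, h.ec.symm]
  · simp [h.bc, h.bd, h.eb.symm]
  · simp [h.ab, h.ac, h.ad, h.ea.symm]

theorem base_aux [DecidableEq Ω] {blk s s' : Finset Ω} {p : Ω} (hps : s = blk.erase p)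
    (hblk : blk = insert p s') (hp : p ∉ s') : s = s' ∧ blk = insert p s := by
  subst hblk
  rw [Finset.erase_insert hp] at hps
  subst hps
  exact ⟨rfl, rfl⟩

theorem base [DecidableEq Ω] (hs : ∀ x y : Fin 4 ↪ Ω, ∃! g : G, ∀ i, g • x i = y i)
    (h3 : ∀ x : G, orderOf x = 3 → Nat.card {q : Ω // x • q = q} = 2)
    {a b c d e : Ω} {x : G} (h : Pres G a b c d e x) {s : Finset Ω}
    (hsub : s ⊆ {a, b, c, d, e}) (hcard : s.card = 4) :
    ∃ (a₂ b₂ c₂ d₂ e₂ : Ω) (x₂ : G), Pres G a₂ b₂ c₂ d₂ e₂ x₂ ∧ s = {a₂, b₂, c₂, d₂} ∧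
      ({a, b, c, d, e} : Finset Ω) = insert e₂ s := by
  have h5 := card5 h
  obtain ⟨p, hp⟩ : ∃ p, ({a, b, c, d, e} : Finset Ω) \ s = {p} :=
    Finset.card_eq_one.mp (by rw [Finset.card_sdiff_of_subset hsub, h5, hcard])
  have hps : s = ({a, b, c, d, e} : Finset Ω).erase p := by
    rw [← Finset.sdiff_singleton_eq_erase, ← hp, Finset.sdiff_sdiff_eq_self hsub]
  have hpm : p ∈ ({a, b, c, d, e} : Finset Ω) :=
    (Finset.mem_sdiff.mp (by rw [hp]; exact Finset.mem_singleton_self p)).1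
  simp only [Finset.mem_insert, Finset.mem_singleton] at hpm
  rcases hpm with rfl | rfl | rfl | rfl | rfl
  · -- the point is `a`
    obtain ⟨e1, e2⟩ := base_aux (s' := {e, b, c, d}) hps
      (by ext q; simp only [Finset.mem_insert, Finset.mem_singleton]; tauto)
      (by simp [h.ab, h.ac, h.ad, h.ea.symm])
    exact ⟨e, b, c, d, p, x, h.swap, e1, e2⟩
  · -- the point is `b`
    obtain ⟨x₂, h'⟩ := move hs h3 h
    obtain ⟨e1, e2⟩ := base_aux (s' := {e, a, c, d}) hps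
      (by ext q; simp only [Finset.mem_insert, Finset.mem_singleton]; tauto)
      (by simp [h.ab.symm, h.bc, h.bd, h.eb.symm])
    exact ⟨e, a, c, d, p, x₂, h'.swap, e1, e2⟩
  · -- the point is `c`
    obtain ⟨x₂, h'⟩ := move hs h3 h.rot
    obtain ⟨e1, e2⟩ := base_aux (s' := {e, a, d, b}) hps
      (by ext q; simp only [Finset.mem_insert, Finset.mem_singleton]; tauto)
      (by simp [h.ac.symm, h.bc.symm, h.cd, h.ec.symm])
    exact ⟨e, a, d, b, p, x₂, h'.swap, e1, e2⟩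
  · -- the point is `d`
    obtain ⟨x₂, h'⟩ := move hs h3 h.rot.rot
    obtain ⟨e1, e2⟩ := base_aux (s' := {e, a, b, c}) hps
      (by ext q; simp only [Finset.mem_insert, Finset.mem_singleton]; tauto)
      (by simp [h.ad.symm, h.bd.symm, h.cd.symm, h.ed.symm])
    exact ⟨e, a, b, c, p, x₂, h'.swap, e1, e2⟩
  · -- the point is `e`
    obtain ⟨e1, e2⟩ := base_aux (s' := {a, b, c, d}) hps
      (by ext q; simp only [Finset.mem_insert, Finset.mem_singleton]; tauto)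
      (by simp [h.ea, h.eb, h.ec, h.ed])
    exact ⟨a, b, c, d, p, x, h, e1, e2⟩

/-- **[STEINER]** -/
theorem pkgSteiner : Cfsg.Agent.Lib.Helper93.M11U.PkgSteiner.{u} := by
  intro G _ _ Ω _ _ hs h3
  classical
  refine ⟨{blk | ∃ (a b c d e : Ω) (x : G), Pres G a b c d e x ∧ blk = {a, b, c, d, e}},
    ⟨?_, ?_⟩, ?_⟩
  · rintro blk ⟨a, b, c, d, e, x, h, rfl⟩
    exact card5 h
  · intro s hcard
    obtain ⟨a, t, hat, rfl, ht⟩ := Finset.card_eq_succ.mp hcard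
    obtain ⟨b, c, d, hbc, hbd, hcd, rfl⟩ := Finset.card_eq_three.mp ht
    simp only [Finset.mem_insert, Finset.mem_singleton, not_or] at hat
    obtain ⟨e, x, h⟩ := exists_pres hs h3 hat.1 hat.2.1 hat.2.2 hbc hbd hcd
    refine ⟨{a, b, c, d, e}, ⟨⟨a, b, c, d, e, x, h, rfl⟩, ?_⟩, ?_⟩
    · intro q hq
      simp only [Finset.mem_insert, Finset.mem_singleton] at hq ⊢
      tauto
    · rintro blk' ⟨⟨a', b', c', d', e', x', h', rfl⟩, hsub⟩
      obtain ⟨a₂, b₂, c₂, d₂, e₂, x₂, hp2, hs2, hb2⟩ := base hs h3 h' hsub hcard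
      have hee := c1 hs h3 h hp2 hs2
      rw [hb2, ← hee]
      ext q
      simp only [Finset.mem_insert, Finset.mem_singleton]
      tauto
  · rintro g blk ⟨a, b, c, d, e, x, h, rfl⟩
    refine ⟨g • a, g • b, g • c, g • d, g • e, g * x * g⁻¹, h.conj g, ?_⟩
    simp [Finset.map_insert]

end Cfsg.Agent.Lib.Helper96.M11U
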